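import Groth.Agent.TriCat.RightDerivedBridge
import Mathlib.CategoryTheory.Triangulated.HomologicalFunctor

/-!
# `H^0` of the right derived functor as a homological functor on `D⁺`
-/

universe w w' v v' u u'

open CategoryTheory CategoryTheory.Limits CategoryTheory.Pretriangulated ZeroObject

namespace Groth.Agent.SpObjSS

open Groth.Agent.TriCat

variable {C : Type u} [Category.{v} C] [Abelian C] [HasDerivedCategory.{w} C] [EnoughInjectives C]
  {D : Type u'} [Category.{v'} D] [Abelian D] [HasDerivedCategory.{w'} D] (F : C ⥤ D) [F.Additive]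

/-- Complexes of injectives mapped to the derived category of the target by `F`. -/
noncomputable abbrev injImage :
    HomotopyCategory.Plus (InjectiveObject C) ⥤ DerivedCategory.Plus D :=
  (InjectiveObject.ι C).mapHomotopyCategoryPlus ⋙ F.mapHomotopyCategoryPlus ⋙
    DerivedCategory.Plus.Qh

/-- `H^0` of the right derived functor. -/
noncomputable def rh0 : DerivedCategory.Plus C ⥤ D :=
  F.rightDerivedFunctorPlus ⋙ DerivedCategory.Plus.ι ⋙ DerivedCategory.homologyFunctor D 0

instance : (rh0 F).PreservesZeroMorphisms := by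
  apply Functor.preservesZeroMorphisms_of_map_zero_object
  let G := injToPlus C
  have h : IsZero (F.rightDerivedFunctorPlus.obj (G.obj 0)) :=
    (Functor.map_isZero (injImage F) (isZero_zero _)).of_iso ((rightDerivedPlusIso C F).app 0)
  have h' : IsZero ((rh0 F).obj (G.obj 0)) :=
    Functor.map_isZero (DerivedCategory.Plus.ι ⋙ DerivedCategory.homologyFunctor D 0) h
  exact (h'.of_iso ((rh0 F).mapIso ((Functor.map_isZero G (isZero_zero _)).iso (isZero_zero _)).symm)).isoZero

instance : (rh0 F).IsHomological where
  exact T hT := by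
    obtain ⟨T', hT', e₁, e₂, e₃, h₁, h₂⟩ := exists_rightDerived_triangle C F T hT
    let H := DerivedCategory.Plus.ι ⋙ DerivedCategory.homologyFunctor D 0
    let T'' := DerivedCategory.Plus.ι.mapTriangle.obj T'
    have hT'' := DerivedCategory.Plus.ι.map_distinguished T' hT'
    exact ShortComplex.exact_of_iso (ShortComplex.isoMk (H.mapIso e₁) (H.mapIso e₂) (H.mapIso e₃)
      (((H.map_comp _ _).symm.trans ((congrArg H.map h₁).trans (H.map_comp _ _))).symm)
      (((H.map_comp _ _).symm.trans ((congrArg H.map h₂).trans (H.map_comp _ _))).symm)).symm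
      (DerivedCategory.HomologySequence.exact₂ T'' hT'' 0)

noncomputable instance : (rh0 F).ShiftSequence ℤ :=
  Functor.ShiftSequence.tautological _ _

/-- The right derived functor commutes with shifts, objectwise. -/
noncomputable def rightDerivedShiftIso (X : DerivedCategory.Plus C) (n : ℤ) :
    F.rightDerivedFunctorPlus.obj (X⟦n⟧) ≅ (F.rightDerivedFunctorPlus.obj X)⟦n⟧ :=
  let G := injToPlus C
  let X' := G.objPreimage X
  let e := G.objObjPreimageIso X
  F.rightDerivedFunctorPlus.mapIso
      ((shiftFunctor (DerivedCategory.Plus C) n).mapIso e.symm ≪≫ ((G.commShiftIso n).app X').symm) ≪≫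
    (rightDerivedPlusIso C F).app (X'⟦n⟧) ≪≫ ((injImage F).commShiftIso n).app X' ≪≫
      (shiftFunctor (DerivedCategory.Plus D) n).mapIso
        (((rightDerivedPlusIso C F).app X').symm ≪≫ F.rightDerivedFunctorPlus.mapIso e)

/-- The shifts of `rh0 F` are the cohomology objects of the derived functor. -/
noncomputable def rh0ShiftIso (X : DerivedCategory.Plus C) (n : ℤ) :
    ((rh0 F).shift n).obj X ≅
      (DerivedCategory.homologyFunctor D n).obj
        (DerivedCategory.Plus.ι.obj (F.rightDerivedFunctorPlus.obj X)) :=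
  (DerivedCategory.Plus.ι ⋙ DerivedCategory.homologyFunctor D 0).mapIso
      (rightDerivedShiftIso F X n) ≪≫
    (DerivedCategory.homologyFunctor D 0).mapIso
      ((DerivedCategory.Plus.ι.commShiftIso n).app _) ≪≫
      ((DerivedCategory.homologyFunctor D 0).isoShift n).app _

/-- On objects placed in degree zero, the shifts of `rh0 F` are the right derived functors. -/
lemma nonempty_rh0_shift_single (A : C) (p : ℕ) :
    Nonempty (((rh0 F).shift (p : ℤ)).obj ((DerivedCategory.Plus.singleFunctor C 0).obj A) ≅
      (F.rightDerived p).obj A) :=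
  ⟨rh0ShiftIso F _ _ ≪≫ (derivedCohIso F p).app A⟩

/-- `rh0 F` is left t-exact. -/
lemma isZero_rh0_shift (X : DerivedCategory.Plus C) (a : ℤ) [X.IsGE a] (n : ℤ) (hn : n < a) :
    IsZero (((rh0 F).shift n).obj X) := by
  obtain ⟨L, hL, ⟨e⟩⟩ := DerivedCategory.Plus.exists_injective_nonempty_iso X a
  refine IsZero.of_iso ?_ (rh0ShiftIso F X n)
  let L' := (HomotopyCategory.Plus.quotient (InjectiveObject C)).obj L
  refine IsZero.of_iso ?_ ((DerivedCategory.Plus.ι ⋙ DerivedCategory.homologyFunctor D n).mapIso
    (F.rightDerivedFunctorPlus.mapIso e.symm ≪≫ (rightDerivedPlusIso C F).app L'))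
  refine IsZero.of_iso ?_
    ((homologyPlusIso F n).app ((InjectiveObject.ι C).mapCochainComplexPlus.obj L))
  have : (((InjectiveObject.ι C).mapCochainComplexPlus.obj L).obj).IsStrictlyGE a := by
    exact (CochainComplex.isStrictlyGE_mapHomologicalComplex_obj_iff L.obj (InjectiveObject.ι C) a).2 hL
  refine ShortComplex.isZero_homology_of_isZero_X₂ _ ?_
  exact F.map_isZero (@CochainComplex.isZero_of_isStrictlyGE _ _ _ _ a n hn this)

end Groth.Agent.SpObjSS
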