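import Groth.Agent.SpObjSS.Homological
import Mathlib.CategoryTheory.Triangulated.TStructure.SpectralObject
import Mathlib.Algebra.Homology.SpectralObject.HasSpectralSequence

/-!
# The spectral object of a left t-exact homological functor on an object `≥ 0`
-/

universe v v' u u'

open CategoryTheory CategoryTheory.Limits CategoryTheory.Pretriangulated
  CategoryTheory.Triangulated ComposableArrows

namespace Groth.Agent.SpObjSS

variable {T : Type u} [Category.{v} T] [HasZeroObject T] [HasShift T ℤ] [Preadditive T]
  [∀ (n : ℤ), (shiftFunctor T n).Additive] [Pretriangulated T] [IsTriangulated T]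
  {A : Type u'} [Category.{v'} A] [Abelian A] (t : TStructure T) (F : T ⥤ A) [F.IsHomological]
  [F.ShiftSequence ℤ] (Y : T)

/-- The spectral object of the truncations of `Y`, seen by the homological functor `F`. -/
noncomputable abbrev truncSpObj : Abelian.SpectralObject A EInt :=
  mapHomological (t.spectralObject Y) F

lemma isFirstQuadrant_truncSpObj [t.IsGE Y 0]
    (hF : ∀ (X : T) (a : ℤ), t.IsGE X a → ∀ n, n < a → IsZero ((F.shift n).obj X)) :
    (truncSpObj t F Y).IsFirstQuadrant where
  isZero₁ i j hij hj n := by
    show IsZero ((F.shift n).obj ((t.eTruncGE.obj i).obj ((t.eTruncLT.obj j).obj Y)))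
    exact Functor.map_isZero _ (Functor.map_isZero _ (t.isZero_eTruncLT_obj_obj Y 0 j hj))
  isZero₂ i j hij n hi := by
    show IsZero ((F.shift n).obj ((t.eTruncGE.obj i).obj ((t.eTruncLT.obj j).obj Y)))
    induction i using WithBotTop.rec with
    | bot => simp at hi
    | coe a =>
      exact hF _ a (t.isGE_eTruncGE_obj_obj a (a : EInt) le_rfl _) n (by simpa using hi)
    | top => exact Functor.map_isZero _ (Functor.zero_obj _)

/-- The whole of `Y` is the piece from `⊥` to `⊤`. -/
noncomputable def truncSpObjTotalIso (n : ℤ) :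
    ((truncSpObj t F Y).H n).obj (mk₁ (homOfLE (bot_le : (⊥ : EInt) ≤ ⊤))) ≅ (F.shift n).obj Y :=
  Iso.refl _

end Groth.Agent.SpObjSS
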