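import Groth.Agent.SpObjSS.Abut
import Groth.Agent.SpObjSS.TStr
import Groth.Agent.SpObjSS.RH0
import Groth.Agent.TriCat.AcyclicObj
import Mathlib.Algebra.Homology.DerivedCategory.FullyFaithful

/-!
# The Grothendieck spectral sequence of a composite functor
-/

universe w v v' v'' u u' u''

open CategoryTheory CategoryTheory.Limits CategoryTheory.Pretriangulated
  CategoryTheory.Triangulated ComposableArrows ZeroObject

namespace Groth.Agent.SpObjSS

open Groth.Agent.TriCat

section Pieces

variable {C : Type u} [Category.{v} C] [Abelian C] [HasDerivedCategory.{w} C]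

open DerivedCategory in
/-- The truncation to degrees `[q, q + 1)` is the `q`-th cohomology object in degree `q`. -/
lemma nonempty_piece_iso (Y : DerivedCategory.Plus C) (q : ℤ) :
    Nonempty (((Plus.TStructure.t.spectralObject Y).ω₁.obj
        (mk₁ (homOfLE (show (q : EInt) ≤ ((q + 1 : ℤ) : EInt) by simp)))) ≅
      (Plus.singleFunctor C q).obj ((Plus.homologyFunctor C q).obj Y)) := by
  let tp := Plus.TStructure.t (C := C)
  let Z := (tp.truncLT (q + 1)).obj Y
  let W := (tp.truncGE q).obj Z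
  have hLE : tp.IsLE Z q := tp.isLE_truncLT_obj _ _ _ (by lia)
  have hGEW : tp.IsGE W q := tp.isGE_truncGE_obj ..
  have hLEW : tp.IsLE W q := inferInstance
  have : (Plus.ι.obj W).IsGE q := (Plus.isGE_ι_obj_iff W q).2 hGEW
  have : (Plus.ι.obj W).IsLE q := (Plus.isLE_ι_obj_iff W q).2 hLEW
  obtain ⟨A, ⟨e⟩⟩ := exists_iso_singleFunctor_obj_of_isGE_of_isLE (Plus.ι.obj W) q
  have h₁ : IsIso ((DerivedCategory.homologyFunctor C q).map
      (Plus.ι.map ((tp.truncGEπ q).app Z))) := by
    have hT := Plus.ι.map_distinguished _ (tp.triangleLTGE_distinguished q Z)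
    have hL : ((tp.truncLT q).obj Z).IsLE (q - 1) := tp.isLE_truncLT_obj ..
    have : (Plus.ι.obj ((tp.truncLT q).obj Z)).IsLE (q - 1) := (Plus.isLE_ι_obj_iff _ _).2 hL
    have : Mono ((DerivedCategory.homologyFunctor C q).map (Plus.ι.map ((tp.truncGEπ q).app Z))) :=
      (HomologySequence.mono_homologyMap_mor₂_iff _ hT q).2
        ((isZero_of_isLE (Plus.ι.obj ((tp.truncLT q).obj Z)) (q - 1) q (by lia)).eq_of_src _ _)
    have : Epi ((DerivedCategory.homologyFunctor C q).map (Plus.ι.map ((tp.truncGEπ q).app Z))) :=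
      (HomologySequence.epi_homologyMap_mor₂_iff _ hT q (q + 1)).2
        ((isZero_of_isLE (Plus.ι.obj ((tp.truncLT q).obj Z)) (q - 1) (q + 1) (by lia)).eq_of_tgt _ _)
    exact isIso_of_mono_of_epi _
  have h₂ : IsIso ((DerivedCategory.homologyFunctor C q).map
      (Plus.ι.map ((tp.truncLTι (q + 1)).app Y))) := by
    have hT := Plus.ι.map_distinguished _ (tp.triangleLTGE_distinguished (q + 1) Y)
    have hG : ((tp.truncGE (q + 1)).obj Y).IsGE (q + 1) := tp.isGE_truncGE_obj ..
    have : (Plus.ι.obj ((tp.truncGE (q + 1)).obj Y)).IsGE (q + 1) := (Plus.isGE_ι_obj_iff _ _).2 hG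
    have : Mono ((DerivedCategory.homologyFunctor C q).map (Plus.ι.map ((tp.truncLTι (q + 1)).app Y))) :=
      (HomologySequence.mono_homologyMap_mor₁_iff _ hT (q - 1) q).2
        ((isZero_of_isGE (Plus.ι.obj ((tp.truncGE (q + 1)).obj Y)) (q + 1) (q - 1) (by lia)).eq_of_src _ _)
    have : Epi ((DerivedCategory.homologyFunctor C q).map (Plus.ι.map ((tp.truncLTι (q + 1)).app Y))) :=
      (HomologySequence.epi_homologyMap_mor₁_iff _ hT q).2
        ((isZero_of_isGE (Plus.ι.obj ((tp.truncGE (q + 1)).obj Y)) (q + 1) q (by lia)).eq_of_tgt _ _)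
    exact isIso_of_mono_of_epi _
  let eA : A ≅ (Plus.homologyFunctor C q).obj Y :=
    ((singleFunctorCompHomologyFunctorIso C q).app A).symm ≪≫
      (DerivedCategory.homologyFunctor C q).mapIso e.symm ≪≫
      (@asIso _ _ _ _ _ h₁).symm ≪≫ @asIso _ _ _ _ _ h₂
  exact ⟨Plus.ι.preimageIso (e ≪≫ ((Plus.singleFunctorιIso C q).app A).symm) ≪≫
    (Plus.singleFunctor C q).mapIso eA⟩

end Pieces

/-- Injective resolutions give enough injectives. -/
lemma enoughInjectives_of_hasInjectiveResolutions {C : Type u} [Category.{v} C] [Abelian C]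
    [HasInjectiveResolutions C] : EnoughInjectives C :=
  ⟨fun X => ⟨{ J := (injectiveResolution X).cocomplex.X 0
               f := (injectiveResolution X).ι.f 0
               mono := inferInstanceAs (Mono ((injectiveResolution X).ι.f 0)) }⟩⟩

section Grothendieck

variable {C : Type u} [Category.{v} C] [Abelian C]
  {C' : Type u'} [Category.{v'} C'] [Abelian C']
  {C'' : Type u''} [Category.{v''} C''] [Abelian C'']

/-- The Grothendieck spectral sequence, with prescribed models of the abutment and of the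
second page. -/
theorem exists_grothendieck_spectralSequence' [EnoughInjectives C] [EnoughInjectives C']
    (T : C ⥤ C') [T.Additive] (S : C' ⥤ C'') [S.Additive] [PreservesFiniteLimits S]
    (hT : ∀ Q : C, Injective Q → IsRightAcyclic S (T.obj Q)) (A : C)
    (H : ℕ → C'') (eH : ∀ n, Nonempty (((T ⋙ S).rightDerived n).obj A ≅ H n))
    (P : ℕ → ℕ → C'') (eP : ∀ p q, Nonempty ((S.rightDerived p).obj ((T.rightDerived q).obj A) ≅ P p q))
    (O : C'') (hO : IsZero O) :
    ∃ (E : E₂CohomologicalSpectralSequence C'')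
      (a : SpSeq.Abutment E (fun n : ℤ => if 0 ≤ n then H n.toNat else O)),
      (∀ n, a.IsFinite n) ∧ SpSeq.IsBounded E ∧
      ∀ p q : ℤ, Nonempty ((E.page 2 le_rfl).X (p, q) ≅
        (if 0 ≤ p ∧ 0 ≤ q then P p.toNat q.toNat else O)) := by
  let := HasDerivedCategory.standard C'
  let := HasDerivedCategory.standard C''
  let R := injectiveResolution A
  let K : CochainComplex.Plus C' := T.mapCochainComplexPlus.obj (resPlus R)
  have hP : IsAdapted S (IsRightAcyclic S) := isAdapted_isRightAcyclic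
  have hK : ∀ n, IsRightAcyclic S (K.obj.X n) := fun n =>
    hT _ (inferInstanceAs (Injective (R.cochainComplex.X n)))
  have hu : IsIso (S.rightDerivedFunctorPlusUnit.app ((HomotopyCategory.Plus.quotient C').obj K)) :=
    isIso_unit_of_adapted S hP (fun X => ⟨Injective.under X, Injective.ι X,
      isRightAcyclic_of_injective _, inferInstance⟩) K hK
  let Y : DerivedCategory.Plus C' :=
    DerivedCategory.Plus.Qh.obj ((HomotopyCategory.Plus.quotient C').obj K)
  have hKge : K.obj.IsStrictlyGE 0 := by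
    show CochainComplex.IsStrictlyGE ((T.mapHomologicalComplex (ComplexShape.up ℤ)).obj R.cochainComplex) 0
    infer_instance
  have hY : Y.IsGE 0 := by
    rw [← DerivedCategory.Plus.isGE_ι_obj_iff]
    exact DerivedCategory.TStructure.t.isGE_of_iso
      ((DerivedCategory.quotientCompQhIso C').app K.obj).symm 0
  let tp := DerivedCategory.Plus.TStructure.t (C := C')
  let X := truncSpObj tp (rh0 S) Y
  have hX : X.IsFirstQuadrant := isFirstQuadrant_truncSpObj tp (rh0 S) Y
    (fun Z a hZ n hn => @isZero_rh0_shift _ _ _ _ _ _ _ _ _ S _ Z a hZ n hn)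
  have e : ∀ n : ℤ, Nonempty ((X.H n).obj (mk₁ (homOfLE (bot_le : (⊥ : EInt) ≤ ⊤))) ≅
      (if 0 ≤ n then H n.toNat else O)) := fun n => by
    by_cases hn : 0 ≤ n
    · rw [if_pos hn]
      obtain ⟨m, rfl⟩ := Int.eq_ofNat_of_zero_le hn
      exact ⟨truncSpObjTotalIso tp (rh0 S) Y _ ≪≫ rh0ShiftIso S Y _ ≪≫
        (DerivedCategory.Plus.ι ⋙ DerivedCategory.homologyFunctor C'' (m : ℤ)).mapIso
          (asIso (S.rightDerivedFunctorPlusUnit.app ((HomotopyCategory.Plus.quotient C').obj K))).symm ≪≫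
        (homologyPlusIso S (m : ℤ)).app K ≪≫ homologyResIso (T ⋙ S) R m ≪≫
        (R.isoRightDerivedObj (T ⋙ S) m).symm ≪≫ (eH m).some⟩
    · rw [if_neg hn]
      exact ⟨IsZero.iso (isZero_rh0_shift S Y 0 n (by lia)) hO⟩
  refine ⟨ss X, abutment X _ (fun n => (e n).some), fun n => abutment_isFinite X _ _ n,
    isBounded X, fun p q => ?_⟩
  by_cases h : 0 ≤ p ∧ 0 ≤ q
  · rw [if_pos h]
    obtain ⟨p, rfl⟩ := Int.eq_ofNat_of_zero_le h.1
    obtain ⟨q, rfl⟩ := Int.eq_ofNat_of_zero_le h.2
    let HY := (DerivedCategory.Plus.homologyFunctor C' (q : ℤ)).obj Y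
    let eY : HY ≅ (T.rightDerived q).obj A :=
      (homologyPlusIso T (q : ℤ)).app (resPlus R) ≪≫ homologyResIso T R q ≪≫
        (R.isoRightDerivedObj T q).symm
    refine ⟨pageTwoIso X _ _ ≪≫
      ((rh0 S).shift ((p : ℤ) + (q : ℤ))).mapIso (nonempty_piece_iso Y q).some ≪≫
      ((rh0 S).shift ((p : ℤ) + (q : ℤ))).mapIso
        ((((DerivedCategory.Plus.singleFunctors C').shiftIso (-(q : ℤ)) (q : ℤ) 0
          (by lia)).app HY).symm ≪≫
          (shiftFunctor (DerivedCategory.Plus C') (-(q : ℤ))).mapIso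
            ((DerivedCategory.Plus.singleFunctor C' 0).mapIso eY)) ≪≫
      ((rh0 S).shiftIso (-(q : ℤ)) ((p : ℤ) + (q : ℤ)) (p : ℤ) (by lia)).app _ ≪≫
      (nonempty_rh0_shift_single S _ p).some ≪≫ (eP p q).some⟩
  · rw [if_neg h]
    exact ⟨IsZero.iso (isZero_page X 2 le_rfl (p, q) (by simp only; lia)) hO⟩

/-- The Grothendieck spectral sequence. -/
theorem exists_grothendieck_spectralSequence [EnoughInjectives C] [EnoughInjectives C']
    (T : C ⥤ C') [T.Additive] (S : C' ⥤ C'') [S.Additive] [PreservesFiniteLimits S]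
    (hT : ∀ Q : C, Injective Q → IsRightAcyclic S (T.obj Q)) (A : C) :
    ∃ (E : E₂CohomologicalSpectralSequence C'')
      (a : SpSeq.Abutment E (fun n : ℤ => if 0 ≤ n then ((T ⋙ S).rightDerived n.toNat).obj A else 0)),
      (∀ n, a.IsFinite n) ∧ SpSeq.IsBounded E ∧
      ∀ p q : ℤ, Nonempty ((E.page 2 le_rfl).X (p, q) ≅
        (if 0 ≤ p ∧ 0 ≤ q then (S.rightDerived p.toNat).obj ((T.rightDerived q.toNat).obj A) else 0)) :=
  exists_grothendieck_spectralSequence' T S hT A (fun n => ((T ⋙ S).rightDerived n).obj A)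
    (fun _ => ⟨Iso.refl _⟩) (fun p q => (S.rightDerived p).obj ((T.rightDerived q).obj A))
    (fun _ _ => ⟨Iso.refl _⟩) 0 (isZero_zero _)

end Grothendieck

end Groth.Agent.SpObjSS
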