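import Groth.Agent.SpObjSS.Grothendieck
import Groth.Agent.SiteBase.Rpush
import Groth.Agent.SiteBase.NervePush
import Groth.Agent.SiteBase.CechInst
import Mathlib.CategoryTheory.Preadditive.Yoneda.Limits

/-!
# Leray spectral sequences for abelian sheaves on sites
-/

universe v w u

open CategoryTheory CategoryTheory.Limits Opposite Abelian ZeroObject

namespace Groth.Agent.SpObjSS

open Groth.Agent.SiteBase

section Hom

variable {A : Type v} [Category.{u} A] [Abelian A] (P : A)

/-- `X ↦ Hom(P, X)`. -/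
noncomputable abbrev homFrom : A ⥤ AddCommGrpCat.{u} := preadditiveCoyoneda.obj (op P)

/-- `X ↦ Hom(P, X)` as a constant presheaf on the point. -/
noncomputable def homFromPsh : A ⥤ (Discrete PUnit.{u + 1})ᵒᵖ ⥤ AddCommGrpCat.{u} :=
  homFrom P ⋙ Functor.const _

instance : (homFromPsh P).Additive where
  map_add {X Y f g} := by
    ext U : 2
    exact (homFrom P).map_add

/-- The presentation of `homFromPsh`. -/
noncomputable def homFromPres : HomPres ((Functor.const (Discrete PUnit.{u + 1})).obj P) (homFromPsh P) where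
  σ X _ := AddEquiv.refl (P ⟶ X)
  σ_comp _ _ _ := rfl
  σ_map _ φ := Category.id_comp φ

variable [HasExt.{u} A] [EnoughInjectives A]

/-- The right derived functors of `Hom(P, -)` are the Ext groups. -/
noncomputable def rightDerivedHomFromIso (n : ℕ) (X : A) :
    ((homFrom P).rightDerived n).obj X ≅ AddCommGrpCat.of (Abelian.Ext P X n) :=
  let ev := (evaluation (Discrete PUnit.{u + 1})ᵒᵖ AddCommGrpCat.{u}).obj (op ⟨PUnit.unit⟩)
  (rightDerivedCongr (F := homFrom P) (G := homFromPsh P ⋙ ev)
      (NatIso.ofComponents (fun _ => Iso.refl _) (fun _ => (Category.comp_id _).trans (Category.id_comp _).symm)) n ≪≫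
    rightDerivedCompIso (homFromPsh P) ev n).app X ≪≫
      (((homFromPres P).rightDerivedIso n).app X).app (op ⟨PUnit.unit⟩)

end Hom

variable {C : Type u} [SmallCategory C] (J : GrothendieckTopology C)

/-- The sections functor at an object. -/
noncomputable abbrev secAt (V : C) : Sheaf J AddCommGrpCat.{u} ⥤ AddCommGrpCat.{u} :=
  sheafToPresheaf J AddCommGrpCat.{u} ⋙ (evaluation Cᵒᵖ AddCommGrpCat.{u}).obj (op V)

/-- The right derived functors of sections at `V` are `H^n(V, -)`. -/
noncomputable def rightDerivedSecAtIso (V : C) (n : ℕ) (F : Sheaf J AddCommGrpCat.{u}) :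
    ((secAt J V).rightDerived n).obj F ≅ AddCommGrpCat.of (CohSite.HU F n V) :=
  (rightDerivedCompIso (sheafToPresheaf J AddCommGrpCat.{u})
      ((evaluation Cᵒᵖ AddCommGrpCat.{u}).obj (op V)) n).app F ≪≫
    ((rightDerivedIsoCohomology n).app F).app (op V)

variable {D : Type u} [SmallCategory D] (K : GrothendieckTopology D) (u : D ⥤ C) [u.IsContinuous K J]
  [PreservesFiniteLimits (u.sheafPullback (Type u) K J)]

lemma isRightAcyclic_secAt_push (Q : Sheaf J AddCommGrpCat.{u}) [Injective Q] (V : D) :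
    Groth.Agent.TriCat.IsRightAcyclic (secAt K V) ((CohSite.push J K u).obj Q) := fun i hi => by
  obtain ⟨j, rfl⟩ := Nat.exists_eq_succ_of_ne_zero hi.ne'
  refine IsZero.of_iso ?_ (rightDerivedSecAtIso K V (j + 1) _)
  have := subsingleton_HU_of_totallyAcyclic
    (isTotallyAcyclic_push_injective (J := J) (K := K) u Q) V j
  exact AddCommGrpCat.isZero_of_subsingleton _

/-- The Leray spectral sequence. -/
theorem exists_leray (M : Sheaf J AddCommGrpCat.{u}) (V : D) :
    ∃ (E : E₂CohomologicalSpectralSequence AddCommGrpCat.{u})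
      (a : SpSeq.Abutment E (fun n : ℤ => if 0 ≤ n then
        AddCommGrpCat.of (CohSite.HU M n.toNat (u.obj V)) else AddCommGrpCat.of PUnit.{u + 1})),
      (∀ n, a.IsFinite n) ∧ SpSeq.IsBounded E ∧
      ∀ p q : ℤ, Nonempty ((E.page 2 le_rfl).X (p, q) ≅
        (if 0 ≤ p ∧ 0 ≤ q then
          AddCommGrpCat.of (CohSite.HU ((CohSite.Rpush J K u q.toNat).obj M) p.toNat V)
          else AddCommGrpCat.of PUnit.{u + 1})) :=
  exists_grothendieck_spectralSequence' (CohSite.push J K u) (secAt K V)
    (fun Q _ => isRightAcyclic_secAt_push J K u Q V) M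
    (fun n => AddCommGrpCat.of (CohSite.HU M n (u.obj V)))
    (fun n => ⟨(rightDerivedCongr (F := CohSite.push J K u ⋙ secAt K V) (G := secAt J (u.obj V))
      (Iso.refl _) n).app M ≪≫ rightDerivedSecAtIso J (u.obj V) n M⟩)
    (fun p q => AddCommGrpCat.of (CohSite.HU ((CohSite.Rpush J K u q).obj M) p V))
    (fun p q => ⟨rightDerivedSecAtIso K V p _⟩)
    _ (AddCommGrpCat.isZero_of_subsingleton _)

/-- The relative Leray spectral sequence. -/
theorem exists_relative_leray {B : Type u} [SmallCategory B] (L : GrothendieckTopology B)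
    (w : B ⥤ D) [w.IsContinuous L K] [(w ⋙ u).IsContinuous L J] (M : Sheaf J AddCommGrpCat.{u}) :
    ∃ (E : E₂CohomologicalSpectralSequence (Sheaf L AddCommGrpCat.{u}))
      (a : SpSeq.Abutment E (fun n : ℤ =>
        if 0 ≤ n then (CohSite.Rpush J L (w ⋙ u) n.toNat).obj M else 0)),
      (∀ n, a.IsFinite n) ∧ SpSeq.IsBounded E ∧
      ∀ p q : ℤ, Nonempty ((E.page 2 le_rfl).X (p, q) ≅
        (if 0 ≤ p ∧ 0 ≤ q then
          (CohSite.Rpush K L w p.toNat).obj ((CohSite.Rpush J K u q.toNat).obj M) else 0)) := by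
  have : PreservesFiniteLimits (CohSite.push K L w) := by
    have : (CohSite.push K L w).IsRightAdjoint := inferInstance
    exact inferInstance
  refine exists_grothendieck_spectralSequence' (CohSite.push J K u) (CohSite.push K L w)
    (fun Q _ i hi => ?_) M (fun n => (CohSite.Rpush J L (w ⋙ u) n).obj M)
    (fun n => ⟨(rightDerivedCongr (F := CohSite.push J K u ⋙ CohSite.push K L w)
      (G := CohSite.push J L (w ⋙ u)) (Iso.refl _) n).app M⟩)
    (fun p q => (CohSite.Rpush K L w p).obj ((CohSite.Rpush J K u q).obj M))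
    (fun _ _ => ⟨Iso.refl _⟩) 0 (isZero_zero _)
  obtain ⟨j, rfl⟩ := Nat.exists_eq_succ_of_ne_zero hi.ne'
  exact isZero_rpush_of_subsingleton K L w (j + 1) _ fun V =>
    subsingleton_HU_of_totallyAcyclic (isTotallyAcyclic_push_injective (J := J) (K := K) u Q) (w.obj V) j

omit K u

/-- Presheaves as sheaves for the trivial topology. -/
noncomputable def toBotSheaf :
    Sheaf J AddCommGrpCat.{u} ⥤ Sheaf (⊥ : GrothendieckTopology C) AddCommGrpCat.{u} :=
  sheafToPresheaf J AddCommGrpCat.{u} ⋙ (sheafBotEquivalence AddCommGrpCat.{u}).inverse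

instance : (sheafBotEquivalence (C := C) AddCommGrpCat.{u}).inverse.Additive where

instance : (toBotSheaf J).Additive where

/-- Maps from the free presheaf on `R` into a sheaf. -/
noncomputable def homFreeIso (R : Cᵒᵖ ⥤ Type u) :
    toBotSheaf J ⋙ homFrom ((presheafToSheaf (⊥ : GrothendieckTopology C) AddCommGrpCat.{u}).obj
        (R ⋙ AddCommGrpCat.free.{u})) ≅
      homFrom ((presheafToSheaf J AddCommGrpCat.{u}).obj (R ⋙ AddCommGrpCat.free.{u})) :=
  NatIso.ofComponents (fun F => AddEquiv.toAddCommGrpIso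
    (((sheafificationAdjunction (⊥ : GrothendieckTopology C) AddCommGrpCat.{u}).homAddEquiv
        (R ⋙ AddCommGrpCat.free.{u}) ((toBotSheaf J).obj F)).trans
      ((sheafificationAdjunction J AddCommGrpCat.{u}).homAddEquiv
        (R ⋙ AddCommGrpCat.free.{u}) F).symm))
    (fun {F G} f => by
      ext φ
      let a := sheafificationAdjunction (⊥ : GrothendieckTopology C) AddCommGrpCat.{u}
      let b := sheafificationAdjunction J AddCommGrpCat.{u}
      show (b.homEquiv _ _).symm (a.homEquiv _ _ (φ ≫ (toBotSheaf J).map f)) =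
        (b.homEquiv _ _).symm (a.homEquiv _ _ φ) ≫ f
      refine Eq.trans ?_ (b.homEquiv_naturality_right_symm
        (a.homEquiv (R ⋙ AddCommGrpCat.free.{u}) ((toBotSheaf J).obj F) φ) f)
      exact congrArg (b.homEquiv (R ⋙ AddCommGrpCat.free.{u}) G).symm
        (a.homEquiv_naturality_right φ ((toBotSheaf J).map f)))

/-- The spectral sequence of a presheaf of sets. -/
theorem exists_presheaf_cohomology_spectralSequence (R : Cᵒᵖ ⥤ Type u) (M : Sheaf J AddCommGrpCat.{u}) :
    ∃ (E : E₂CohomologicalSpectralSequence AddCommGrpCat.{u})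
      (a : SpSeq.Abutment E (fun n : ℤ =>
        if 0 ≤ n then AddCommGrpCat.of (CohCx.HK ((presheafToSheaf J (Type u)).obj R) M n.toNat)
        else AddCommGrpCat.of PUnit.{u + 1})),
      (∀ n, a.IsFinite n) ∧ SpSeq.IsBounded E ∧
      ∀ p q : ℤ, Nonempty ((E.page 2 le_rfl).X (p, q) ≅
        (if 0 ≤ p ∧ 0 ≤ q then
          AddCommGrpCat.of (CohCx.HK (J := (⊥ : GrothendieckTopology C)) ⟨R, Presheaf.isSheaf_bot _⟩
            ⟨M.cohomologyPresheaf q.toNat, Presheaf.isSheaf_bot _⟩ p.toNat)
         else AddCommGrpCat.of PUnit.{u + 1})) := by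
  let P₀ := (presheafToSheaf (⊥ : GrothendieckTopology C) AddCommGrpCat.{u}).obj
    (R ⋙ AddCommGrpCat.free.{u})
  let P₁ := (presheafToSheaf J AddCommGrpCat.{u}).obj (R ⋙ AddCommGrpCat.free.{u})
  refine exists_grothendieck_spectralSequence' (toBotSheaf J) (homFrom P₀) (fun Q hQ i hi => ?_) M
    (fun n => AddCommGrpCat.of (CohCx.HK ((presheafToSheaf J (Type u)).obj R) M n))
    (fun n => ⟨(rightDerivedCongr (homFreeIso J R) n).app M ≪≫ rightDerivedHomFromIso P₁ n M ≪≫
      ((extFunctor.{u} n).mapIso ((freeSheafifyIso J).app R).op).app M⟩)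
    (fun p q => AddCommGrpCat.of (CohCx.HK (J := (⊥ : GrothendieckTopology C))
      ⟨R, Presheaf.isSheaf_bot _⟩ ⟨M.cohomologyPresheaf q, Presheaf.isSheaf_bot _⟩ p))
    (fun p q => ⟨((homFrom P₀).rightDerived p).mapIso
      ((rightDerivedCompIso (sheafToPresheaf J AddCommGrpCat.{u})
        (sheafBotEquivalence AddCommGrpCat.{u}).inverse q).app M ≪≫
          (sheafBotEquivalence AddCommGrpCat.{u}).inverse.mapIso
            ((rightDerivedIsoCohomology q).app M)) ≪≫
      rightDerivedHomFromIso P₀ p _⟩)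
    _ (AddCommGrpCat.isZero_of_subsingleton _)
  have : Injective ((sheafBotEquivalence AddCommGrpCat.{u}).inverse.obj Q.obj) :=
    have := injective_obj Q
    Injective.injective_of_adjoint (sheafBotEquivalence AddCommGrpCat.{u}).toAdjunction _
  have : Injective ((toBotSheaf J).obj Q) := this
  exact Groth.Agent.TriCat.isRightAcyclic_of_injective ((toBotSheaf J).obj Q) i hi

end Groth.Agent.SpObjSS
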