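import Groth.Agent.SpObjSS.ExactCx
import Groth.Agent.SpObjSS.SiteLeray
import Groth.Agent.SiteBase.CechInst

/-!
# The Čech-to-cohomology spectral sequence
-/

universe u

open CategoryTheory CategoryTheory.Limits Opposite

namespace Groth.Agent.SpObjSS

open Groth.Agent.SiteBase

variable {C : Type u} [SmallCategory C] {D : Type u} [SmallCategory D] [HasFiniteProducts D]
  (Φ : D ⥤ C) {U : C} {ι : Type u} (Y : ι → D)

instance enoughInjectives_presheaf {E : Type u} [SmallCategory E] :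
    EnoughInjectives (Eᵒᵖ ⥤ AddCommGrpCat.{u}) :=
  EnoughInjectives.of_equivalence (sheafBotEquivalence (C := E) AddCommGrpCat.{u}).inverse

/-- The Čech complex of a presheaf as a functor. -/
noncomputable def cechPshFunctor : (Cᵒᵖ ⥤ AddCommGrpCat.{u}) ⥤ CochainComplex AddCommGrpCat.{u} ℕ :=
  (Functor.whiskeringLeft Dᵒᵖ Cᵒᵖ AddCommGrpCat.{u}).obj Φ.op ⋙ cechComplexFunctor Y

lemma cev_cechPshFunctor_map {P Q : Cᵒᵖ ⥤ AddCommGrpCat.{u}} (φ : P ⟶ Q) (n : ℕ)
    (i : Fin (n + 1) → ι) (x : ((cechPshFunctor Φ Y).obj P).X n) :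
    cev Y (Φ.op ⋙ Q) n i ((((cechPshFunctor Φ Y).map φ).f n).hom x) =
      (φ.app (op (Φ.obj (∏ᶜ fun k => Y (i k))))).hom (cev Y (Φ.op ⋙ P) n i x) :=
  cev_map Y (Φ.op ⋙ P) (Functor.whiskerLeft Φ.op φ) n i x

instance : (cechPshFunctor Φ Y).Additive where
  map_add {P Q f g} := by
    ext n x
    refine cev_ext Y (Φ.op ⋙ Q) fun i => ?_
    refine (cev_cechPshFunctor_map Φ Y (f + g) n i x).trans ?_
    refine Eq.trans ?_ (map_add (cev Y (Φ.op ⋙ Q) n i) _ _).symm
    exact congrArg₂ (· + ·) (cev_cechPshFunctor_map Φ Y f n i x).symm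
      (cev_cechPshFunctor_map Φ Y g n i x).symm

lemma cechPshFunctor_shortExact (S : ShortComplex (Cᵒᵖ ⥤ AddCommGrpCat.{u})) (hS : S.ShortExact) :
    (S.map (cechPshFunctor Φ Y)).ShortExact := by
  have hev := fun W : C => hS.map_of_exact ((evaluation Cᵒᵖ AddCommGrpCat.{u}).obj (op W))
  refine HomologicalComplex.shortExact_of_degreewise_shortExact _ fun n => ?_
  have hm : Mono (((cechPshFunctor Φ Y).map S.f).f n) :=
    (AddCommGrpCat.mono_iff_injective _).2 fun a b hab => cev_ext Y _ fun i => by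
      refine (AddCommGrpCat.mono_iff_injective _).1 (hev (Φ.obj (∏ᶜ fun k => Y (i k)))).mono_f ?_
      exact (cev_cechPshFunctor_map Φ Y S.f n i a).symm.trans
        ((congrArg (cev Y (Φ.op ⋙ S.X₂) n i) hab).trans (cev_cechPshFunctor_map Φ Y S.f n i b))
  have he : Epi (((cechPshFunctor Φ Y).map S.g).f n) :=
    (AddCommGrpCat.epi_iff_surjective _).2 fun z => by
      choose t ht using fun i => (AddCommGrpCat.epi_iff_surjective _).1
        (hev (Φ.obj (∏ᶜ fun k => Y (i k)))).epi_g (cev Y (Φ.op ⋙ S.X₃) n i z)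
      obtain ⟨x, hx⟩ := exists_cev Y (Φ.op ⋙ S.X₂) t
      exact ⟨x, cev_ext Y _ fun i => (cev_cechPshFunctor_map Φ Y S.g n i x).trans
        ((congrArg _ (hx i)).trans (ht i))⟩
  refine ShortComplex.ShortExact.mk' ?_ hm he
  rw [ShortComplex.ab_exact_iff]
  intro x hx
  have key : ∀ i, ∃ t, (S.f.app (op (Φ.obj (∏ᶜ fun k => Y (i k))))).hom t =
      cev Y (Φ.op ⋙ S.X₂) n i x := fun i => by
    refine (ShortComplex.ab_exact_iff _).1 (hev (Φ.obj (∏ᶜ fun k => Y (i k)))).exact _ ?_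
    exact (cev_cechPshFunctor_map Φ Y S.g n i x).symm.trans
      ((congrArg (cev Y (Φ.op ⋙ S.X₃) n i) hx).trans (map_zero _))
  choose t ht using key
  obtain ⟨y, hy⟩ := exists_cev Y (Φ.op ⋙ S.X₁) t
  exact ⟨y, cev_ext Y _ fun i => (cev_cechPshFunctor_map Φ Y S.f n i y).trans
    ((congrArg _ (hy i)).trans (ht i))⟩

variable {Φ Y} {J : GrothendieckTopology C}

/-- On sheaves, `H^0` of the Čech complex of a cover is the sections. -/
noncomputable def cechH0Iso (c : CechCtx Φ U Y) (hc : c.sieve ∈ J U) :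
    sheafToPresheaf J AddCommGrpCat.{u} ⋙ hZero (cechPshFunctor Φ Y) ≅ secAt J U :=
  (NatIso.ofComponents (F := secAt J U)
    (G := sheafToPresheaf J AddCommGrpCat.{u} ⋙ hZero (cechPshFunctor Φ Y))
    (fun F => AddEquiv.toAddCommGrpIso (X := (secAt J U).obj F)
      (Y := (sheafToPresheaf J AddCommGrpCat.{u} ⋙ hZero (cechPshFunctor Φ Y)).obj F)
      (AddEquiv.ofBijective (toH0 c F) (toH0_bijective c F hc)))
    (fun {F G} g => by
      ext t
      exact (toH0_natural c g t).symm)).symm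

variable (J) in
/-- The spectral sequence of a cover. -/
theorem exists_cartan_leray (c : CechCtx Φ U Y) (hc : c.sieve ∈ J U)
    (hinj : ∀ P : Cᵒᵖ ⥤ AddCommGrpCat.{u}, Injective P →
      ∀ p, ((cechComplexFunctor Y).obj (Φ.op ⋙ P)).ExactAt (p + 1))
    (M : Sheaf J AddCommGrpCat.{u}) :
    ∃ (E : E₂CohomologicalSpectralSequence AddCommGrpCat.{u})
      (a : SpSeq.Abutment E (fun n : ℤ =>
        if 0 ≤ n then AddCommGrpCat.of (CohSite.HU M n.toNat U) else AddCommGrpCat.of PUnit.{u + 1})),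
      (∀ n, a.IsFinite n) ∧ SpSeq.IsBounded E ∧
      ∀ p q : ℤ, Nonempty ((E.page 2 le_rfl).X (p, q) ≅
        (if 0 ≤ p ∧ 0 ≤ q then ((cechComplexFunctor Y).obj (Φ.op ⋙ M.cohomologyPresheaf q.toNat)).homology p.toNat
         else AddCommGrpCat.of PUnit.{u + 1})) := by
  have hK := cechPshFunctor_shortExact Φ Y
  have := preservesFiniteLimits_hZero (cechPshFunctor Φ Y) hK
  refine exists_grothendieck_spectralSequence' (sheafToPresheaf J AddCommGrpCat.{u})
    (hZero (cechPshFunctor Φ Y)) (fun Q hQ i hi => ?_) M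
    (fun n => AddCommGrpCat.of (CohSite.HU M n U))
    (fun n => ⟨(rightDerivedCongr (cechH0Iso c hc) n).app M ≪≫ rightDerivedSecAtIso J U n M⟩)
    (fun p q => ((cechComplexFunctor Y).obj (Φ.op ⋙ M.cohomologyPresheaf q)).homology p)
    (fun p q => ⟨((hZero (cechPshFunctor Φ Y)).rightDerived p).mapIso
      ((rightDerivedIsoCohomology q).app M) ≪≫
        (nonempty_rightDerived_hZero_iso (cechPshFunctor Φ Y) hK hinj p _).some⟩)
    _ (AddCommGrpCat.isZero_of_subsingleton _)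
  have : Injective ((sheafToPresheaf J AddCommGrpCat.{u}).obj Q) := injective_obj Q
  exact Groth.Agent.TriCat.isRightAcyclic_of_injective ((sheafToPresheaf J AddCommGrpCat.{u}).obj Q) i hi

end Groth.Agent.SpObjSS
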