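import Groth.Agent.TriCat.AcyclicObj
import Mathlib.Algebra.Homology.HomologicalComplexAbelian
import Mathlib.Algebra.Homology.HomologySequence
import Mathlib.Algebra.Homology.ShortComplex.HomologicalComplex

/-!
# Right derived functors of `H^0` of an exact complex-valued functor
-/

universe v v' u u'

open CategoryTheory CategoryTheory.Limits

namespace Groth.Agent.SpObjSS

variable {A : Type u} [Category.{v} A] [Abelian A] [EnoughInjectives A]
  {B : Type u'} [Category.{v'} B] [Abelian B]
  (K : A ⥤ CochainComplex B ℕ) [K.Additive]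

/-- `H^0` of a complex-valued functor. -/
noncomputable abbrev hZero : A ⥤ B := K ⋙ HomologicalComplex.homologyFunctor B (ComplexShape.up ℕ) 0

variable (hK : ∀ S : ShortComplex A, S.ShortExact → (S.map K).ShortExact)

omit [EnoughInjectives A] in
include hK in
lemma preservesFiniteLimits_hZero : PreservesFiniteLimits (hZero K) :=
  by
    have t := (Functor.preservesFiniteLimits_tfae (hZero K)).out 3 0
    refine t.2 fun S hS => ⟨(hK S hS).homology_exact₂ 0, ?_⟩
    have := (hK S hS).mono_f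
    exact HomologicalComplex.mono_homologyMap_of_mono_of_not_rel (S.map K).f 0 (by simp)

variable (hI : ∀ I : A, Injective I → ∀ p : ℕ, (K.obj I).ExactAt (p + 1))

omit [K.Additive] in
lemma nonempty_iso_of_cokernels {P₁ P₂ P₃ Q₁ Q₂ Q₃ : B} {f : P₁ ⟶ P₂} {g : P₂ ⟶ P₃} {w : f ≫ g = 0}
    (h : (ShortComplex.mk f g w).Exact) [Epi g] {f' : Q₁ ⟶ Q₂} {g' : Q₂ ⟶ Q₃} {w' : f' ≫ g' = 0}
    (h' : (ShortComplex.mk f' g' w').Exact) [Epi g'] (a₁ : P₁ ≅ Q₁) (a₂ : P₂ ≅ Q₂)
    (c : f ≫ a₂.hom = a₁.hom ≫ f') : Nonempty (P₃ ≅ Q₃) := by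
  have : Epi (ShortComplex.mk f g w).g := ‹Epi g›
  have : Epi (ShortComplex.mk f' g' w').g := ‹Epi g'›
  exact ⟨(h.gIsCokernel).coconePointUniqueUpToIso
    ((IsColimit.precomposeHomEquiv (parallelPair.ext a₁ a₂ c (by simp)) _).symm h'.gIsCokernel)⟩

include hK hI in
/-- The right derived functors of `H^0 ∘ K` are the cohomology objects of `K`. -/
theorem nonempty_rightDerived_hZero_iso (p : ℕ) (X : A) :
    Nonempty (((hZero K).rightDerived p).obj X ≅ (K.obj X).homology p) := by
  have := preservesFiniteLimits_hZero K hK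
  let := HasDerivedCategory.standard A
  let := HasDerivedCategory.standard B
  induction p generalizing X with
  | zero => exact ⟨(hZero K).rightDerivedZeroIsoSelf.app X⟩
  | succ p ih =>
    let S := ShortComplex.mk (Injective.ι X) (cokernel.π (Injective.ι X)) (cokernel.condition _)
    have hS : S.ShortExact :=
      { exact := ShortComplex.exact_of_g_is_cokernel _ (cokernelIsCokernel _)
        mono_f := inferInstanceAs (Mono (Injective.ι X))
        epi_g := inferInstanceAs (Epi (cokernel.π _)) }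
    obtain ⟨δ, w₁, w₂, w₃, -, e₂, e₃⟩ := TriCat.exists_rightDerived_ses (hZero K) hS p
    have hδ : Epi δ := e₃.epi_f (((hZero K).isZero_rightDerived_obj_injective_succ p S.X₂).eq_of_tgt _ _)
    have hS' := hK S hS
    have hz : ∀ q, IsZero ((K.obj S.X₂).homology (q + 1)) := fun q =>
      (HomologicalComplex.exactAt_iff_isZero_homology _ _).1 (hI _ (inferInstanceAs (Injective (Injective.under X))) q)
    have hδ' : Epi (hS'.δ p (p + 1) rfl) :=
      (hS'.homology_exact₁ p (p + 1) rfl).epi_f ((hz p).eq_of_tgt _ _)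
    cases p with
    | zero =>
      have : Epi (hS'.δ 0 1 rfl) := hδ'
      exact @nonempty_iso_of_cokernels B _ _ _ _ _ _ _ _ _ _ _ e₂ hδ _ _ _ (hS'.homology_exact₃ 0 1 rfl) hδ'
        ((hZero K).rightDerivedZeroIsoSelf.app S.X₂) ((hZero K).rightDerivedZeroIsoSelf.app S.X₃)
        ((hZero K).rightDerivedZeroIsoSelf.hom.naturality S.g)
    | succ q =>
      have hm : Mono δ := e₂.mono_g
        (((hZero K).isZero_rightDerived_obj_injective_succ q S.X₂).eq_of_src _ _)
      have hm' : Mono (hS'.δ (q + 1) (q + 1 + 1) rfl) :=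
        (hS'.homology_exact₃ (q + 1) (q + 1 + 1) rfl).mono_g ((hz q).eq_of_src _ _)
      have := isIso_of_mono_of_epi δ
      obtain ⟨e⟩ := ih S.X₃
      have hi : IsIso (hS'.δ (q + 1) (q + 1 + 1) rfl) := @isIso_of_mono_of_epi B _ _ _ _ _ hm' hδ'
      exact ⟨(asIso δ).symm ≪≫ e ≪≫ @asIso B _ _ _ _ hi⟩

end Groth.Agent.SpObjSS
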