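import Mathlib.CategoryTheory.Triangulated.SpectralObject
import Mathlib.CategoryTheory.Triangulated.HomologicalFunctor
import Mathlib.Algebra.Homology.SpectralObject.Basic

/-!
# The image of a triangulated spectral object by a homological functor
-/

universe w v v' u u'

open CategoryTheory CategoryTheory.Limits CategoryTheory.Pretriangulated ComposableArrows

namespace Groth.Agent.SpObjSS

variable {T : Type u} [Category.{v} T] [HasZeroObject T] [HasShift T ℤ] [Preadditive T]
  [∀ (n : ℤ), (shiftFunctor T n).Additive] [Pretriangulated T]
  {A : Type u'} [Category.{v'} A] [Abelian A] {ι : Type w} [Category ι]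
  (X : Triangulated.SpectralObject T ι) (F : T ⥤ A) [F.IsHomological] [F.ShiftSequence ℤ]

/-- The spectral object in an abelian category obtained by applying a homological functor. -/
noncomputable def mapHomological : Abelian.SpectralObject A ι where
  H n := X.ω₁ ⋙ F.shift n
  δ' n₀ n₁ h :=
    { app := fun D => F.homologySequenceδ (X.ω₂.obj D) n₀ n₁ h
      naturality := fun _ _ f => F.homologySequenceδ_naturality _ _ (X.ω₂.map f) n₀ n₁ h }
  exact₁' n₀ n₁ h D :=
    (F.homologySequence_exact₁ _ (X.ω₂_obj_distinguished D) n₀ n₁ h).exact_toComposableArrows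
  exact₂' n D :=
    (F.homologySequence_exact₂ _ (X.ω₂_obj_distinguished D) n).exact_toComposableArrows
  exact₃' n₀ n₁ h D :=
    (F.homologySequence_exact₃ _ (X.ω₂_obj_distinguished D) n₀ n₁ h).exact_toComposableArrows

end Groth.Agent.SpObjSS
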